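import Cfsg.Agent.H856.ThreeRho

/-!
# `C(z) ∩ C(ρ)` in a group with the structure `J4Type.Compl`

`DD F = C(z) ∩ C(ρ)`: centre `⟨z, ρ⟩` cyclic of order 6, central quotient `M22`; perfect if it contains `ρ` in its
derived subgroup.
-/

set_option autoImplicit false

namespace Cfsg.Agent.H855.SixM22

open Subgroup Cfsg Cfsg.Agent.J4Type Cfsg.Agent.H856.ThreeRho
open scoped commutatorElement

theorem center_M22 : center Spor.M22 = ⊥ := by
  have := Cfsg.Agent.SporadicA.MathieuRecog.simple_M22
  rcases (inferInstance : (center Spor.M22).Normal).eq_bot_or_eq_top with h | h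
  · exact h
  · exfalso
    have h1 : ∀ a b : Spor.M22, a * b = b * a := fun a b => by
      have h2 : b ∈ center Spor.M22 := by rw [h]; trivial
      exact mem_center_iff.1 h2 a
    have h4 : (Nat.card Spor.M22).Prime := by
      let _ : CommGroup Spor.M22 := { (inferInstance : Group Spor.M22) with mul_comm := h1 }
      exact IsSimpleGroup.prime_card
    rw [Cfsg.Agent.SporadicA.MathieuRecog.card_M22] at h4
    norm_num at h4

theorem commutator_M22 : commutator Spor.M22 = ⊤ := by
  have := Cfsg.Agent.SporadicA.MathieuRecog.simple_M22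
  rcases (inferInstance : (commutator Spor.M22).Normal).eq_bot_or_eq_top with h | h
  · exfalso
    rw [commutator_eq_bot_iff_center_eq_top, center_M22] at h
    have h1 : Nat.card (⊤ : Subgroup Spor.M22) = 1 := by rw [← h, card_bot]
    rw [card_top, Cfsg.Agent.SporadicA.MathieuRecog.card_M22] at h1
    norm_num at h1
  · exact h

variable {K : Type*} [Group K] (F : J4Type.Compl K)

/-- `C(z) ∩ C(ρ)` -/
abbrev DD : Subgroup (HH F) := centralizer ({zH F} : Set (HH F))

/-- `z` -/
def zD : DD F := ⟨zH F, mem_centralizer_singleton_iff.2 rfl⟩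

/-- `ρ` -/
def rD : DD F := ⟨rH F, (mem_DD F).2 F.ρ_comm⟩

theorem zD_comm (c : DD F) : c * zD F = zD F * c := Subtype.ext (Subtype.ext ((mem_DD F).1 c.2))

theorem rD_comm (c : DD F) : c * rD F = rD F * c := Subtype.ext (Subtype.ext (toC_comm F c))

theorem zD_mem_center : zD F ∈ center (DD F) := mem_center_iff.2 fun c => zD_comm F c

theorem rD_mem_center : rD F ∈ center (DD F) := mem_center_iff.2 fun c => rD_comm F c

theorem orderOf_zD : orderOf (zD F) = 2 := by
  rw [← Subgroup.orderOf_coe, ← Subgroup.orderOf_coe]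
  exact F.z_order

theorem orderOf_rD : orderOf (rD F) = 3 := by
  rw [← Subgroup.orderOf_coe, ← Subgroup.orderOf_coe]
  exact F.ρ_order

theorem fM_ker' {c : DD F} (h : fM F c = 1) : ∃ i j : ℕ, c = zD F ^ i * rD F ^ j := by
  obtain ⟨i, j, hij⟩ := fM_ker F c h
  exact ⟨i, j, Subtype.ext hij⟩

theorem ker_fM : (fM F).ker = center (DD F) := by
  apply le_antisymm
  · intro c hc
    obtain ⟨i, j, rfl⟩ := fM_ker' F hc
    exact mul_mem (pow_mem (zD_mem_center F) i) (pow_mem (rD_mem_center F) j)
  · intro c hc
    have h1 : fM F c ∈ center Spor.M22 := by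
      rw [mem_center_iff]
      intro g
      obtain ⟨x, rfl⟩ := fM_surj F g
      rw [← map_mul, mem_center_iff.1 hc x, map_mul]
    rw [center_M22] at h1
    exact h1

/-- generator of the centre -/
def cD : DD F := zD F * rD F

theorem orderOf_cD : orderOf (cD F) = 6 := by
  have h1 : Commute (zD F) (rD F) := (zD_comm F (rD F)).symm
  rw [cD, h1.orderOf_mul_eq_mul_orderOf_of_coprime (by rw [orderOf_zD, orderOf_rD]; norm_num),
    orderOf_zD, orderOf_rD]

theorem center_eq : center (DD F) = zpowers (cD F) := by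
  have h1 : Commute (zD F) (rD F) := (zD_comm F (rD F)).symm
  have hz2 : zD F ^ 2 = 1 := by rw [← orderOf_zD F]; exact pow_orderOf_eq_one _
  have hr3 : rD F ^ 3 = 1 := by rw [← orderOf_rD F]; exact pow_orderOf_eq_one _
  have hz : zD F ∈ zpowers (cD F) := by
    refine mem_zpowers_iff.2 ⟨3, ?_⟩
    rw [show (3 : ℤ) = ((3 : ℕ) : ℤ) from rfl, zpow_natCast, cD, h1.mul_pow, hr3, mul_one, pow_succ, hz2,
      one_mul]
  have hr : rD F ∈ zpowers (cD F) := by
    refine mem_zpowers_iff.2 ⟨4, ?_⟩
    rw [show (4 : ℤ) = ((4 : ℕ) : ℤ) from rfl, zpow_natCast, cD, h1.mul_pow, pow_succ (rD F) 3, hr3, one_mul,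
      show 4 = 2 * 2 from rfl, pow_mul, hz2, one_pow, one_mul]
  apply le_antisymm
  · rw [← ker_fM]
    intro c hc
    obtain ⟨i, j, rfl⟩ := fM_ker' F hc
    exact mul_mem (pow_mem hz i) (pow_mem hr j)
  · rw [zpowers_le]
    exact mul_mem (zD_mem_center F) (rD_mem_center F)

theorem isCyclic_center : IsCyclic (center (DD F)) := by
  rw [center_eq]; infer_instance

theorem card_center : Nat.card (center (DD F)) = 6 := by
  rw [center_eq, Nat.card_zpowers, orderOf_cD]

/-- the central quotient -/
theorem isoM22 : Spor.IsoM22 (DD F ⧸ center (DD F)) :=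
  ⟨(QuotientGroup.quotientMulEquivOfEq (ker_fM F).symm).trans
    (QuotientGroup.quotientKerEquivOfSurjective (fM F) (fM_surj F))⟩

theorem commutator_eq_top (h : rD F ∈ commutator (DD F)) : commutator (DD F) = ⊤ := by
  rw [eq_top_iff]
  intro c _
  have h1 : (commutator (DD F)).map (fM F) = ⊤ := by
    rw [commutator_def, map_commutator, ← MonoidHom.range_eq_map, MonoidHom.range_eq_top.2 (fM_surj F),
      ← commutator_def, commutator_M22]
  have h2 : fM F c ∈ (commutator (DD F)).map (fM F) := by rw [h1]; trivial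
  obtain ⟨d, hd, hdc⟩ := h2
  have h3 : fM F (d⁻¹ * c) = 1 := by rw [map_mul, map_inv, hdc, inv_mul_cancel]
  obtain ⟨i, j, hij⟩ := fM_ker' F h3
  have hz : zD F ∈ commutator (DD F) := z_mem_commutator F
  have h4 : c = d * (zD F ^ i * rD F ^ j) := by rw [← hij, mul_inv_cancel_left]
  rw [h4]
  exact mul_mem hd (mul_mem (pow_mem hz i) (pow_mem h j))

/-- transfer to a conjugate situation -/
theorem transfer {X : Subgroup K} (e : X ≃* DD F) (hr : e.symm (rD F) ∈ commutator X) :
    ⁅X, X⁆ = X ∧ IsCyclic (center X) ∧ Nat.card (center X) = 6 ∧ Spor.IsoM22 (X ⧸ center X) := by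
  have hcomm : (commutator X).map e.toMonoidHom = commutator (DD F) := by
    rw [commutator_def, map_commutator, ← MonoidHom.range_eq_map, MonoidHom.range_eq_top.2 e.surjective,
      ← commutator_def]
  have h1 : commutator (DD F) = ⊤ := by
    apply commutator_eq_top
    rw [← hcomm]
    exact ⟨_, hr, e.apply_symm_apply _⟩
  have h2 : commutator X = ⊤ := by
    rw [eq_top_iff]
    intro x _
    have h3 : e x ∈ (commutator X).map e.toMonoidHom := by rw [hcomm, h1]; trivial
    obtain ⟨y, hy, hyx⟩ := h3
    rw [← e.injective hyx]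
    exact hy
  have hc : (center X).map e.toMonoidHom = center (DD F) := by
    ext c
    constructor
    · rintro ⟨x, hx, rfl⟩
      rw [mem_center_iff]
      intro g
      obtain ⟨y, rfl⟩ := e.surjective g
      change e y * e x = e x * e y
      rw [← map_mul, mem_center_iff.1 hx y, map_mul]
    · intro hc
      refine ⟨e.symm c, mem_center_iff.2 fun y => e.injective ?_, e.apply_symm_apply c⟩
      rw [map_mul, map_mul, e.apply_symm_apply]
      exact mem_center_iff.1 hc _
  refine ⟨?_, ?_, ?_, ?_⟩
  · have h3 := congrArg (Subgroup.map X.subtype) h2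
    rw [commutator_def, map_commutator, ← MonoidHom.range_eq_map, range_subtype] at h3
    exact h3
  · have := isCyclic_center F
    exact (centerCongr e).isCyclic.2 this
  · rw [Nat.card_congr (centerCongr e).toEquiv]
    exact card_center F
  · obtain ⟨f⟩ := isoM22 F
    exact ⟨(QuotientGroup.congr (center X) (center (DD F)) e hc).trans f⟩

end Cfsg.Agent.H855.SixM22
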