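import Cfsg.Agent.H855.FiftyFour

/-!
# Groups `P⟨d⟩` generated by 3-transpositions acting on an elementary abelian 2-group

`L` is generated by the class of the involution `d`, `P` is a normal `3`-subgroup containing the products of
conjugates of `d`, all of order dividing `3`. `L` acts faithfully on an elementary abelian `2`-group `W` such that `d`
centralises `C_W(x)` for every `x ≠ 1` in `P` inverted by `d`. Then `L` is `S_3` or `3^{1+2}:2`.
-/

set_option autoImplicit false

namespace Cfsg.Agent.H855.InvModule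

open Subgroup
open scoped commutatorElement
open Cfsg.Agent.H855.FiftyFour

section generation

variable {U : Type*} [CommGroup U]

theorem norm_fixed {γ : MulAut U} (h : γ ^ 3 = 1) (u : U) : γ (u * γ u * γ (γ u)) = u * γ u * γ (γ u) := by
  have h1 : γ (γ (γ u)) = u := by
    have := congrArg (fun δ : MulAut U => δ u) h
    simpa only [pow_succ, pow_zero, one_mul, MulAut.mul_apply, MulAut.one_apply] using this
  rw [map_mul, map_mul, h1, mul_comm, mul_assoc]

theorem gen_trivial (hsq : ∀ u : U, u * u = 1) {α β τ : MulAut U} (hc : α * β = β * α) (ha : α ^ 3 = 1)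
    (hb : β ^ 3 = 1) (h1 : ∀ u, α u = u → τ u = u) (h2 : ∀ u, β u = u → τ u = u)
    (h3 : ∀ u, (α * β) u = u → τ u = u) (h4 : ∀ u, (α * β ^ 2) u = u → τ u = u) : τ = 1 := by
  have hc' : Commute α β := hc
  have hcu : ∀ u, β (α u) = α (β u) := fun u => congrArg (fun δ : MulAut U => δ u) hc.symm
  have hab : (α * β) ^ 3 = 1 := by rw [hc'.mul_pow, ha, hb, one_mul]
  have hab2 : (α * β ^ 2) ^ 3 = 1 := by
    rw [(hc'.pow_right 2).mul_pow, ha, one_mul, ← pow_mul, mul_comm, pow_mul, hb, one_pow]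
  have hb3 : ∀ u, β (β (β u)) = u := fun u => by
    have := congrArg (fun δ : MulAut U => δ u) hb
    simpa only [pow_succ, pow_zero, one_mul, MulAut.mul_apply, MulAut.one_apply] using this
  ext u
  have e1 := h1 _ (norm_fixed ha u)
  have e2 := h2 _ (norm_fixed hb u)
  have e3 := h3 _ (norm_fixed hab u)
  have e4 := h4 _ (norm_fixed hab2 u)
  have e5 := h1 _ (norm_fixed ha (u * β u * β (β u)))
  have s3 : (α * β) ((α * β) u) = α (α (β (β u))) := by
    rw [MulAut.mul_apply, MulAut.mul_apply, hcu]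
  have s4 : (α * β ^ 2) u = α (β (β u)) := by
    rw [MulAut.mul_apply, pow_two, MulAut.mul_apply]
  have s5 : (α * β ^ 2) ((α * β ^ 2) u) = α (α (β u)) := by
    rw [s4, MulAut.mul_apply, pow_two, MulAut.mul_apply, hcu, hcu, hb3]
  rw [s3] at e3
  rw [s5, s4] at e4
  rw [MulAut.mul_apply] at e3
  simp only [map_mul] at e5
  -- the formal identity
  have key : ∀ a00 a10 a20 a01 a02 a11 a22 a12 a21 : U,
      (a00 * a10 * a20) * (a00 * a01 * a02) * (a00 * a11 * a22) * (a00 * a12 * a21) *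
        ((a00 * a01 * a02) * (a10 * a11 * a12) * (a20 * a21 * a22)) = a00 := by
    intro a00 a10 a20 a01 a02 a11 a22 a12 a21
    have : (a00 * a10 * a20) * (a00 * a01 * a02) * (a00 * a11 * a22) * (a00 * a12 * a21) *
        ((a00 * a01 * a02) * (a10 * a11 * a12) * (a20 * a21 * a22)) =
        a00 * ((a00 * a00) * (a00 * a00) * (a10 * a10) * (a20 * a20) * (a01 * a01) * (a02 * a02) *
          (a11 * a11) * (a22 * a22) * (a12 * a12) * (a21 * a21)) := by ac_rfl
    rw [this]
    simp only [hsq, mul_one]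
  have hk := key u (α u) (α (α u)) (β u) (β (β u)) (α (β u)) (α (α (β (β u)))) (α (β (β u)))
    (α (α (β u)))
  have hk2 := congrArg τ hk
  simp only [map_mul] at hk2 e1 e2 e3 e4 e5
  rw [MulAut.one_apply]
  rw [e5, e1, e2, e3, e4] at hk2
  exact hk2.symm.trans hk

end generation

/-- The hypotheses on `L`. -/
structure Data {L : Type*} [Group L] (P : Subgroup L) (d : L) : Prop where
  normal : P.Normal
  pgroup : IsPGroup 3 P
  d2 : d * d = 1
  gen : closure (conjugatesOf d) = ⊤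
  prod : ∀ e ∈ conjugatesOf d, ∀ f ∈ conjugatesOf d, e * f ∈ P ∧ (e * f) ^ 3 = 1

/-- `x` is an element of `P` inverted by `d`. -/
def Inv {L : Type*} [Group L] (P : Subgroup L) (d x : L) : Prop :=
  x ∈ P ∧ d * x * d⁻¹ = x⁻¹

section basic

variable {L : Type*} [Group L] {P : Subgroup L} {d : L}

theorem Data.d_inv (h : Data P d) : d⁻¹ = d := inv_eq_of_mul_eq_one_left h.d2

theorem Data.sq (h : Data P d) {e : L} (he : e ∈ conjugatesOf d) : e * e = 1 := by
  obtain ⟨c, rfl⟩ := isConj_iff.mp (show IsConj d e from he)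
  have : c * d * c⁻¹ * (c * d * c⁻¹) = c * (d * d) * c⁻¹ := by group
  rw [this, h.d2, mul_one, mul_inv_cancel]

theorem Data.inv_of_class (h : Data P d) {e : L} (he : e ∈ conjugatesOf d) : Inv P d (d * e) := by
  refine ⟨(h.prod d mem_conjugatesOf_self e he).1, ?_⟩
  have hei : e⁻¹ = e := inv_eq_of_mul_eq_one_left (h.sq he)
  rw [mul_inv_rev, hei, h.d_inv, ← mul_assoc, h.d2, one_mul]

theorem Data.class_of_inv (h : Data P d) {x : L} (hx : Inv P d x) : d * x ∈ conjugatesOf d := by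
  obtain ⟨hxP, hdx⟩ := hx
  obtain ⟨k, hk⟩ := h.pgroup ⟨x, hxP⟩
  have hk' : x ^ 3 ^ k = 1 := congrArg Subtype.val hk
  have hodd : Odd (3 ^ k) := Odd.pow (by decide)
  obtain ⟨m, hm⟩ := hodd
  set y := x ^ (m + 1) with hy
  have hyy : y * y = x := by
    rw [hy, ← pow_add]
    have : m + 1 + (m + 1) = 3 ^ k + 1 := by omega
    rw [this, pow_succ, hk', one_mul]
  have hdy : d * y * d⁻¹ = y⁻¹ := by rw [hy, ← conj_pow, hdx, inv_pow]
  have h1 : y⁻¹ * d * y = d * x := by
    rw [← hdy, ← hyy, h.d_inv]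
    calc d * y * d * d * y = d * y * (d * d) * y := by simp only [mul_assoc]
      _ = d * (y * y) := by rw [h.d2]; simp only [mul_assoc, mul_one]
  exact isConj_iff.mpr ⟨y⁻¹, by rw [inv_inv]; exact h1⟩

theorem Data.inv_cube (h : Data P d) {x : L} (hx : Inv P d x) : x ^ 3 = 1 := by
  have h1 := (h.prod d mem_conjugatesOf_self _ (h.class_of_inv hx)).2
  rwa [← mul_assoc, h.d2, one_mul] at h1

theorem inv_mul_mul {x y : L} (hx : Inv P d x) (hy : Inv P d y) : Inv P d (x * y * x) := by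
  refine ⟨mul_mem (mul_mem hx.1 hy.1) hx.1, ?_⟩
  calc d * (x * y * x) * d⁻¹ = (d * x * d⁻¹) * (d * y * d⁻¹) * (d * x * d⁻¹) := by group
    _ = (x * y * x)⁻¹ := by rw [hx.2, hy.2]; group

theorem inv_pow {x : L} (hx : Inv P d x) (n : ℕ) : Inv P d (x ^ n) :=
  ⟨pow_mem hx.1 n, by rw [← conj_pow, hx.2, _root_.inv_pow]⟩

end basic

section act

variable {L : Type*} [Group L] {P : Subgroup L} {d : L}

/-- the commuting case: a `3^2:2` acts with `d` trivial -/
theorem Data.act_eq_one (h : Data P d) {U : Type*} [CommGroup U] (hsq : ∀ u : U, u * u = 1)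
    (σ : L →* MulAut U) (hfix : ∀ x, Inv P d x → x ≠ 1 → ∀ u, σ x u = u → σ d u = u)
    {x y : L} (hx : Inv P d x) (hy : Inv P d y) (hx1 : x ≠ 1) (hy1 : y ≠ 1) (hxy : x ≠ y)
    (hxy' : x ≠ y⁻¹) (hc : σ x * σ y = σ y * σ x) : σ d = 1 := by
  have hc' : Commute (σ x) (σ y) := hc
  have hy3 := h.inv_cube hy
  have hx3 := h.inv_cube hx
  have hsx : (σ x) ^ 3 = 1 := by rw [← map_pow, hx3, map_one]
  have hsy : (σ y) ^ 3 = 1 := by rw [← map_pow, hy3, map_one]
  refine gen_trivial hsq hc hsx hsy (hfix x hx hx1) (hfix y hy hy1) ?_ ?_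
  · -- `x y ≡ y² x y²`
    have h1 : σ x * σ y = σ (y ^ 2 * x * y ^ 2) := by
      rw [map_mul, map_mul, map_pow]
      rw [← (hc'.pow_right 2).eq, mul_assoc, ← pow_add]
      rw [show 2 + 2 = 3 + 1 from rfl, pow_succ, hsy, one_mul]
    rw [h1]
    refine hfix _ (inv_mul_mul (inv_pow hy 2) hx) ?_
    intro h2
    apply hxy'
    have h3 : y⁻¹ = y ^ 2 := by rw [inv_eq_iff_mul_eq_one, ← pow_succ', hy3]
    have h4 : x = (y ^ 2)⁻¹ * (y ^ 2)⁻¹ := by
      calc x = (y ^ 2)⁻¹ * (y ^ 2 * x * y ^ 2) * (y ^ 2)⁻¹ := by group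
        _ = _ := by rw [h2, mul_one]
    rw [h4, ← h3, inv_inv, h3, pow_two]
  · have h1 : σ x * σ y ^ 2 = σ (y * x * y) := by
      rw [map_mul, map_mul, ← hc, mul_assoc, pow_two]
    rw [h1]
    refine hfix _ (inv_mul_mul hy hx) ?_
    intro h2
    apply hxy
    have h3 : y⁻¹ * y⁻¹ = y := by
      calc y⁻¹ * y⁻¹ = y ^ 3 * (y⁻¹ * y⁻¹) := by rw [hy3, one_mul]
        _ = y := by group
    calc x = y⁻¹ * (y * x * y) * y⁻¹ := by group
      _ = y := by rw [h2, mul_one, h3]

/-- the fixed points of a central element -/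
def fixSub {W : Type*} [CommGroup W] (ρ : L →* MulAut W) (a : L) : Subgroup W where
  carrier := {w | ρ a w = w}
  mul_mem' {u v} hu hv := by
    change ρ a (u * v) = u * v
    rw [map_mul, show ρ a u = u from hu, show ρ a v = v from hv]
  one_mem' := map_one _
  inv_mem' {u} hu := by
    change ρ a u⁻¹ = u⁻¹
    rw [map_inv, show ρ a u = u from hu]

theorem mem_fixSub {W : Type*} [CommGroup W] (ρ : L →* MulAut W) (a : L) (w : W) :
    w ∈ fixSub ρ a ↔ ρ a w = w := Iff.rfl

theorem act_mem_fixSub {W : Type*} [CommGroup W] (ρ : L →* MulAut W) {a : L} (ha : a ∈ center L)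
    (l : L) {w : W} (hw : w ∈ fixSub ρ a) : ρ l w ∈ fixSub ρ a := by
  rw [mem_fixSub] at hw ⊢
  have h1 : a * l = l * a := (mem_center_iff.mp ha l).symm
  calc ρ a (ρ l w) = ρ (a * l) w := by rw [map_mul]; rfl
    _ = ρ (l * a) w := by rw [h1]
    _ = ρ l (ρ a w) := by rw [map_mul]; rfl
    _ = ρ l w := by rw [hw]

/-- the action on the fixed points of a central element -/
def fixAct {W : Type*} [CommGroup W] (ρ : L →* MulAut W) {a : L} (ha : a ∈ center L) :
    L →* MulAut (fixSub ρ a) where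
  toFun l :=
    { toFun := fun u => ⟨ρ l u, act_mem_fixSub ρ ha l u.2⟩
      invFun := fun u => ⟨ρ l⁻¹ u, act_mem_fixSub ρ ha l⁻¹ u.2⟩
      left_inv := fun u => Subtype.ext (by
        change ρ l⁻¹ (ρ l u) = u
        rw [← MulAut.mul_apply, ← map_mul, inv_mul_cancel, map_one, MulAut.one_apply])
      right_inv := fun u => Subtype.ext (by
        change ρ l (ρ l⁻¹ u) = u
        rw [← MulAut.mul_apply, ← map_mul, mul_inv_cancel, map_one, MulAut.one_apply])
      map_mul' := fun u v => Subtype.ext (by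
        change ρ l ((u : W) * v) = ρ l u * ρ l v
        rw [map_mul]) }
  map_one' := by
    ext u
    change ρ 1 (u : W) = u
    rw [map_one, MulAut.one_apply]
  map_mul' l m := by
    ext u
    change ρ (l * m) (u : W) = ρ l (ρ m u)
    rw [map_mul, MulAut.mul_apply]

theorem fixAct_coe {W : Type*} [CommGroup W] (ρ : L →* MulAut W) {a : L} (ha : a ∈ center L) (l : L)
    (u : fixSub ρ a) : ((fixAct ρ ha l u : fixSub ρ a) : W) = ρ l u := rfl

/-- on `C_W([x, y])`, `[x, y]` central, `d` is trivial. -/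
theorem Data.fix_of_comm (h : Data P d) {W : Type*} [CommGroup W] (hsq : ∀ u : W, u * u = 1)
    (ρ : L →* MulAut W) (hfix : ∀ x, Inv P d x → x ≠ 1 → ∀ u, ρ x u = u → ρ d u = u)
    {x y : L} (hx : Inv P d x) (hy : Inv P d y) (hc : x * y * x⁻¹ * y⁻¹ ∈ center L)
    (hne : x * y * x⁻¹ * y⁻¹ ≠ 1) (w : W) (hw : ρ (x * y * x⁻¹ * y⁻¹) w = w) : ρ d w = w := by
  have hx1 : x ≠ 1 := by rintro rfl; apply hne; group
  have hy1 : y ≠ 1 := by rintro rfl; apply hne; group
  have hxy : x ≠ y := by rintro rfl; apply hne; group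
  have hxy' : x ≠ y⁻¹ := by rintro rfl; apply hne; group
  have h2 : x * y = (x * y * x⁻¹ * y⁻¹) * (y * x) := by group
  obtain ⟨a, ha⟩ : ∃ a, a = x * y * x⁻¹ * y⁻¹ := ⟨_, rfl⟩
  rw [← ha] at hc hw h2
  have h1 : fixAct ρ hc d = 1 := by
    refine h.act_eq_one (fun u => Subtype.ext (hsq _)) (fixAct ρ hc) ?_ hx hy hx1 hy1 hxy hxy' ?_
    · intro t ht ht1 u hu
      exact Subtype.ext (hfix t ht ht1 u (congrArg Subtype.val hu))
    · rw [← map_mul, ← map_mul, h2, map_mul]
      have h3 : fixAct ρ hc a = 1 := by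
        ext u
        exact u.2
      rw [h3, one_mul]
  exact congrArg Subtype.val (congrArg (fun δ : MulAut (fixSub ρ a) => δ ⟨w, hw⟩) h1)

end act

section main

variable {L : Type*} [Group L] {P : Subgroup L} {d : L}

theorem eq_bot_of_commutator_eq {P N : Subgroup L} (hP : Group.IsNilpotent P) (hNP : N ≤ P)
    (h : N ≤ ⁅N, P⁆) : N = ⊥ := by
  rw [isNilpotent_iff_lowerCentralSeries] at hP
  obtain ⟨n, hn⟩ := hP
  have key : ∀ m, N ≤ P.lowerCentralSeries m := by
    intro m
    induction m with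
    | zero => exact hNP
    | succ m ih =>
      rw [Subgroup.lowerCentralSeries_succ]
      exact h.trans (commutator_mono ih le_rfl)
  rw [eq_bot_iff, ← hn]
  exact key n

theorem Data.exists_central_comm [Finite L] (h : Data P d) (hne : ∃ e ∈ conjugatesOf d, e ≠ d) :
    ∃ x, Inv P d x ∧ x ≠ 1 ∧ ∀ p ∈ P, x * p * x⁻¹ * p⁻¹ ∈ center L := by
  have h3 : Fact (Nat.Prime 3) := ⟨Nat.prime_three⟩
  have hPn := h.normal
  have hPc : ¬ P ≤ center L := by
    intro hle
    obtain ⟨e, he, hed⟩ := hne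
    have hx := h.inv_of_class he
    have hx3 := h.inv_cube hx
    have hxc := mem_center_iff.mp (hle hx.1) d
    have hx2 : (d * e) * (d * e) = 1 := by
      nth_rewrite 1 [show d * e = (d * e)⁻¹ by
        rw [← hx.2, hxc, mul_inv_cancel_right]]
      exact inv_mul_cancel _
    rw [pow_succ, pow_two, hx2, one_mul] at hx3
    apply hed
    calc e = (d * d) * e := by rw [h.d2, one_mul]
      _ = d * (d * e) := by rw [mul_assoc]
      _ = d := by rw [hx3, mul_one]
  obtain ⟨N, hN⟩ := (Set.toFinite {N : Subgroup L | N.Normal ∧ N ≤ P ∧ ¬ N ≤ center L}).exists_minimal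
    ⟨P, hPn, le_rfl, hPc⟩
  obtain ⟨hNn, hNP, hNc⟩ := hN.prop
  have hcomm : ⁅N, P⁆ ≤ center L := by
    by_contra hcon
    have hmem : ⁅N, P⁆ ∈ {N : Subgroup L | N.Normal ∧ N ≤ P ∧ ¬ N ≤ center L} :=
      ⟨inferInstance, (commutator_le_left N P).trans hNP, hcon⟩
    have hle : N ≤ ⁅N, P⁆ := hN.le_of_le hmem (commutator_le_left N P)
    have := eq_bot_of_commutator_eq h.pgroup.isNilpotent hNP hle
    apply hNc
    rw [this]
    exact bot_le
  -- `d` does not centralise `N`
  have hdN : ∃ n ∈ N, d * n * d⁻¹ ≠ n := by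
    by_contra hcon
    push Not at hcon
    apply hNc
    intro n hn
    have hcl : closure (conjugatesOf d) ≤ centralizer {n} := by
      rw [closure_le]
      intro e he
      obtain ⟨c, rfl⟩ := isConj_iff.mp (show IsConj d e from he)
      have h1 := hcon _ (hNn.conj_mem n hn c⁻¹)
      rw [inv_inv] at h1
      rw [SetLike.mem_coe, mem_centralizer_singleton_iff]
      calc c * d * c⁻¹ * n = c * (d * (c⁻¹ * n * c) * d⁻¹) * d * c⁻¹ := by group
        _ = c * (c⁻¹ * n * c) * d * c⁻¹ := by rw [h1]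
        _ = n * (c * d * c⁻¹) := by group
    rw [h.gen] at hcl
    rw [mem_center_iff]
    intro g
    exact mem_centralizer_singleton_iff.mp (hcl (mem_top g))
  obtain ⟨n, hn, hdn⟩ := hdN
  refine ⟨n⁻¹ * (d * n * d⁻¹), ⟨hNP (mul_mem (inv_mem hn) (hNn.conj_mem n hn d)), ?_⟩, ?_, ?_⟩
  · rw [h.d_inv]
    calc d * (n⁻¹ * (d * n * d)) * d = (d * n⁻¹ * d) * n * (d * d) := by simp only [mul_assoc]
      _ = (d * n⁻¹ * d) * n := by rw [h.d2, mul_one]
      _ = (n⁻¹ * (d * n * d))⁻¹ := by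
          rw [mul_inv_rev, mul_inv_rev, mul_inv_rev, h.d_inv, inv_inv]
          simp only [mul_assoc]
  · intro h1
    apply hdn
    exact (inv_mul_eq_one.mp h1).symm
  · intro p hp
    apply hcomm
    have h2 : n⁻¹ * (d * n * d⁻¹) ∈ N := mul_mem (inv_mem hn) (hNn.conj_mem n hn d)
    exact commutator_mem_commutator h2 hp

/-- **Main theorem.** -/
theorem Data.main [Finite L] (h : Data P d) (hne : ∃ e ∈ conjugatesOf d, e ≠ d)
    {W : Type*} [CommGroup W] (hsq : ∀ u : W, u * u = 1) (ρ : L →* MulAut W)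
    (hρ : Function.Injective ρ)
    (hfix : ∀ x, Inv P d x → x ≠ 1 → ∀ u, ρ x u = u → ρ d u = u) :
    (∃ x, Inv P d x ∧ x ≠ 1 ∧ closure ({x, d} : Set L) = ⊤) ∨
      (∃ x y, Rel x y d ∧ x * y * x⁻¹ * y⁻¹ ≠ 1 ∧ closure ({x, y, d} : Set L) = ⊤) := by
  obtain ⟨x, hx, hx1, hxc⟩ := h.exists_central_comm hne
  have hd1 : d ≠ 1 := by
    rintro rfl
    obtain ⟨e, he, hed⟩ := hne
    obtain ⟨c, rfl⟩ := isConj_iff.mp (show IsConj 1 e from he)
    exact hed (by group)
  have hρd : ρ d ≠ 1 := fun h1 => hd1 (hρ (h1.trans (map_one ρ).symm))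
  have hx3 := h.inv_cube hx
  -- commuting elements
  have hcm : ∀ y, Inv P d y → x * y = y * x → y = 1 ∨ y = x ∨ y = x⁻¹ := by
    intro y hy hxy
    by_contra hcon
    push Not at hcon
    obtain ⟨h1, h2, h3⟩ := hcon
    refine hρd (h.act_eq_one hsq ρ hfix hx hy hx1 h1 (Ne.symm h2) ?_ ?_)
    · rintro rfl
      exact h3 (inv_inv y).symm
    · rw [← map_mul, ← map_mul, hxy]
  have hcl : ∀ K : Subgroup L, d ∈ K → (∀ y, Inv P d y → y ∈ K) → K = ⊤ := by
    intro K hdK hK
    rw [eq_top_iff, ← h.gen, closure_le]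
    intro e he
    have h1 := hK _ (h.inv_of_class he)
    have h2 : e = d * (d * e) := by rw [← mul_assoc, h.d2, one_mul]
    rw [h2]
    exact mul_mem hdK h1
  by_cases hall : ∀ y, Inv P d y → x * y = y * x
  · left
    refine ⟨x, hx, hx1, ?_⟩
    have hxK : x ∈ closure ({x, d} : Set L) := subset_closure (by simp)
    refine hcl _ (subset_closure (by simp)) ?_
    intro y hy
    rcases hcm y hy (hall y hy) with rfl | rfl | rfl
    · exact one_mem _
    · exact hxK
    · exact inv_mem hxK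
  · right
    push Not at hall
    obtain ⟨y, hy, hxy⟩ := hall
    have hy3 := h.inv_cube hy
    set z := x * y * x⁻¹ * y⁻¹ with hz
    have hz1 : z ≠ 1 := by
      intro h1
      apply hxy
      calc x * y = (x * y * x⁻¹ * y⁻¹) * (y * x) := by group
        _ = y * x := by rw [← hz, h1, one_mul]
    have hzc : z ∈ center L := hxc y hy.1
    have hzcomm : ∀ g, z * g = g * z := fun g => (mem_center_iff.mp hzc g).symm
    -- the commutator map
    have hcmul : ∀ p ∈ P, ∀ q ∈ P, x * (p * q) * x⁻¹ * (p * q)⁻¹ =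
        (x * p * x⁻¹ * p⁻¹) * (x * q * x⁻¹ * q⁻¹) := by
      intro p hp q hq
      have h1 := mem_center_iff.mp (hxc q hq) p⁻¹
      calc x * (p * q) * x⁻¹ * (p * q)⁻¹ = (x * p * x⁻¹) * ((x * q * x⁻¹ * q⁻¹) * p⁻¹) := by group
        _ = (x * p * x⁻¹) * (p⁻¹ * (x * q * x⁻¹ * q⁻¹)) := by rw [← h1]
        _ = _ := by group
    have hz3 : z ^ 3 = 1 := by
      have h1 : x * (y * (y * y)) * x⁻¹ * (y * (y * y))⁻¹ = z * (z * z) := by
        rw [hcmul y hy.1 _ (mul_mem hy.1 hy.1), hcmul y hy.1 y hy.1]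
      have h2 : y * (y * y) = 1 := by rw [← hy3]; simp only [pow_succ, pow_zero, one_mul, mul_assoc]
      rw [h2] at h1
      have h4 : x * 1 * x⁻¹ * 1⁻¹ = 1 := by group
      rw [h4] at h1
      rw [h1]
      simp only [pow_succ, pow_zero, one_mul, mul_assoc]
    -- all commutators are powers of `z`
    have hpow : ∀ t, Inv P d t → x * t * x⁻¹ * t⁻¹ = 1 ∨ x * t * x⁻¹ * t⁻¹ = z ∨
        x * t * x⁻¹ * t⁻¹ = z ^ 2 := by
      intro t ht
      by_contra hcon
      push Not at hcon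
      obtain ⟨n1, n2, n3⟩ := hcon
      set s := x * t * x⁻¹ * t⁻¹ with hs
      have ht3 := h.inv_cube ht
      have hsc : s ∈ center L := hxc t ht.1
      have hs3 : s ^ 3 = 1 := by
        have h1 : x * (t * (t * t)) * x⁻¹ * (t * (t * t))⁻¹ = s * (s * s) := by
          rw [hcmul t ht.1 _ (mul_mem ht.1 ht.1), hcmul t ht.1 t ht.1]
        have h2 : t * (t * t) = 1 := by
          rw [← ht3]; simp only [pow_succ, pow_zero, one_mul, mul_assoc]
        rw [h2] at h1
        have h4 : x * 1 * x⁻¹ * 1⁻¹ = 1 := by group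
        rw [h4] at h1
        rw [h1]
        simp only [pow_succ, pow_zero, one_mul, mul_assoc]
      have hzs : Commute z s := hzcomm s
      apply hρd
      have f : ∀ q, Inv P d q → x * q * x⁻¹ * q⁻¹ ≠ 1 → ∀ u, ρ (x * q * x⁻¹ * q⁻¹) u = u →
          ρ d u = u := fun q hq hq1 u hu =>
        h.fix_of_comm hsq ρ hfix hx hq (hxc q hq.1) hq1 u hu
      refine gen_trivial hsq (α := ρ s) (β := ρ z) ?_ ?_ ?_ (f t ht n1) (f y hy hz1) ?_ ?_
      · rw [← map_mul, ← map_mul, hzs.eq]
      · rw [← map_pow, hs3, map_one]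
      · rw [← map_pow, hz3, map_one]
      · -- `s z` is the commutator with `y^2 t y^2`
        have h1 : x * (y ^ 2 * t * y ^ 2) * x⁻¹ * (y ^ 2 * t * y ^ 2)⁻¹ = s * z := by
          rw [pow_two, hcmul _ (mul_mem (mul_mem hy.1 hy.1) ht.1) _ (mul_mem hy.1 hy.1),
            hcmul _ (mul_mem hy.1 hy.1) _ ht.1, hcmul _ hy.1 _ hy.1, ← hz, ← hs]
          calc z * z * s * (z * z) = s * (z * z * (z * z)) := by
                rw [(hzs.mul_left hzs).eq]; simp only [mul_assoc]
            _ = s * (z ^ 3 * z) := by simp only [pow_succ, pow_zero, one_mul, mul_assoc]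
            _ = s * z := by rw [hz3, one_mul]
        have h2 : x * (y ^ 2 * t * y ^ 2) * x⁻¹ * (y ^ 2 * t * y ^ 2)⁻¹ ≠ 1 := by
          rw [h1]
          intro h3
          apply n3
          calc s = (s * z) * z⁻¹ := by group
            _ = z⁻¹ * z ^ 3 := by rw [h3, hz3, one_mul, mul_one]
            _ = z ^ 2 := by group
        have h3 := f _ (inv_mul_mul (inv_pow hy 2) ht) h2
        rw [h1] at h3
        rw [← map_mul]
        exact h3
      · -- `s z^2` is the commutator with `y t y`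
        have h1 : x * (y * t * y) * x⁻¹ * (y * t * y)⁻¹ = s * z ^ 2 := by
          rw [hcmul _ (mul_mem hy.1 ht.1) _ hy.1, hcmul _ hy.1 _ ht.1, ← hz, ← hs, hzs.eq, pow_two,
            mul_assoc]
        have h2 : x * (y * t * y) * x⁻¹ * (y * t * y)⁻¹ ≠ 1 := by
          rw [h1]
          intro h3
          apply n2
          calc s = (s * z ^ 2) * (z ^ 3)⁻¹ * z := by group
            _ = z := by rw [h3, hz3]; group
        have h3 := f _ (inv_mul_mul hy ht) h2
        rw [h1] at h3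
        rw [← map_pow, ← map_mul]
        exact h3
    refine ⟨x, y, ⟨hx3, hy3, h.d2, hx.2, hy.2, hzcomm x, hzcomm y⟩, hz1, ?_⟩
    have hxK : x ∈ closure ({x, y, d} : Set L) := subset_closure (by simp)
    have hyK : y ∈ closure ({x, y, d} : Set L) := subset_closure (by simp)
    refine hcl _ (subset_closure (by simp)) ?_
    -- elements commuting with `x`
    have hK : ∀ t, Inv P d t → x * t * x⁻¹ * t⁻¹ = 1 → t ∈ closure ({x, y, d} : Set L) := by
      intro t ht h1
      have h2 : x * t = t * x := by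
        calc x * t = (x * t * x⁻¹ * t⁻¹) * (t * x) := by group
          _ = t * x := by rw [h1, one_mul]
      rcases hcm t ht h2 with rfl | rfl | rfl
      · exact one_mem _
      · exact hxK
      · exact inv_mem hxK
    intro t ht
    rcases hpow t ht with h1 | h1 | h1
    · exact hK t ht h1
    · have h2 : x * (y * t * y) * x⁻¹ * (y * t * y)⁻¹ = 1 := by
        rw [hcmul _ (mul_mem hy.1 ht.1) _ hy.1, hcmul _ hy.1 _ ht.1, ← hz, h1]
        rw [← hz3]; simp only [pow_succ, pow_zero, one_mul, mul_assoc]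
      have h3 := hK _ (inv_mul_mul hy ht) h2
      have h4 : t = y⁻¹ * (y * t * y) * y⁻¹ := by group
      rw [h4]
      exact mul_mem (mul_mem (inv_mem hyK) h3) (inv_mem hyK)
    · have h2 : x * (y ^ 2 * t * y ^ 2) * x⁻¹ * (y ^ 2 * t * y ^ 2)⁻¹ = 1 := by
        rw [pow_two, hcmul _ (mul_mem (mul_mem hy.1 hy.1) ht.1) _ (mul_mem hy.1 hy.1),
          hcmul _ (mul_mem hy.1 hy.1) _ ht.1, hcmul _ hy.1 _ hy.1, ← hz, h1]
        calc z * z * z ^ 2 * (z * z) = z ^ 3 * z ^ 3 := by
              simp only [pow_succ, pow_zero, one_mul, mul_assoc]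
          _ = 1 := by rw [hz3, one_mul]
      have h3 := hK _ (inv_mul_mul (inv_pow hy 2) ht) h2
      have h4 : t = (y ^ 2)⁻¹ * (y ^ 2 * t * y ^ 2) * (y ^ 2)⁻¹ := by group
      rw [h4]
      exact mul_mem (mul_mem (inv_mem (pow_mem hyK 2)) h3) (inv_mem (pow_mem hyK 2))

end main

end Cfsg.Agent.H855.InvModule
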